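import Mathlib
import Groth.Agent.Lib.Helper1.FEtDepth2

/-!
# Morphisms of finite flat schemes extend uniquely across a closed subset of depth at least two
-/

set_option autoImplicit false

universe u

open CategoryTheory CategoryTheory.Limits AlgebraicGeometry TopologicalSpace

namespace Groth.Agent.H5.Depth2Hom

theorem main (S G₁ G₂ : Scheme.{u}) [AlgebraicGeometry.IsNoetherian S] (f₁ : G₁ ⟶ S) (f₂ : G₂ ⟶ S)
    [LocallyOfFiniteType f₁] [Flat f₁] [IsAffineHom f₂] (U : S.Opens)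
    (hU : ∀ s : S, s ∉ U → (2 : ℕ∞) ≤ LocCoh.depth (S.presheaf.stalk s) (S.presheaf.stalk s))
    (φU : ((f₁ ⁻¹ᵁ U : G₁.Opens) : Scheme.{u}) ⟶ ((f₂ ⁻¹ᵁ U : G₂.Opens) : Scheme.{u}))
    (hφU : φU ≫ (f₂ ⁻¹ᵁ U).ι ≫ f₂ = (f₁ ⁻¹ᵁ U).ι ≫ f₁) :
    ∃! φ : G₁ ⟶ G₂, φ ≫ f₂ = f₁ ∧ (f₁ ⁻¹ᵁ U).ι ≫ φ = φU ≫ (f₂ ⁻¹ᵁ U).ι := by
  haveI : IsLocallyNoetherian G₁ := LocallyOfFiniteType.isLocallyNoetherian f₁
  have hdepth : ∀ y : G₁, y ∉ f₁ ⁻¹ᵁ U →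
      (2 : ℕ∞) ≤ LocCoh.depth (G₁.presheaf.stalk y) (G₁.presheaf.stalk y) := by
    intro y hy
    rw [Groth.Agent.H2.FibDepth.depth_stalk_eq f₁ y]
    exact le_add_right (hU _ hy)
  haveI : IsAffineHom (pullback.fst f₁ f₂) :=
    MorphismProperty.pullback_fst (P := @IsAffineHom) f₁ f₂ inferInstance
  have hg : pullback.lift (f₁ ⁻¹ᵁ U).ι (φU ≫ (f₂ ⁻¹ᵁ U).ι) (by rw [Category.assoc, hφU]) ≫
      pullback.fst f₁ f₂ = (f₁ ⁻¹ᵁ U).ι := pullback.lift_fst _ _ _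
  obtain ⟨s, hs1, hs2⟩ := Groth.Agent.H1.AffExt.exists_section (f₁ ⁻¹ᵁ U) hdepth
    (pullback.fst f₁ f₂) _ hg
  refine ⟨s ≫ pullback.snd f₁ f₂, ⟨?_, ?_⟩, ?_⟩
  · rw [Category.assoc, ← pullback.condition, reassoc_of% hs1]
  · rw [reassoc_of% hs2, pullback.lift_snd]
  · rintro φ' ⟨h1, h2⟩
    haveI := Groth.Agent.H1.AffExt.isSchemeTheoreticallyDominant_ι (f₁ ⁻¹ᵁ U) hdepth
    apply Groth.Agent.H1.AffExt.ext_of_isSchemeTheoreticallyDominant_of_isSeparated f₂ _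
      (f₁ ⁻¹ᵁ U).ι
    · rw [h2, reassoc_of% hs2, pullback.lift_snd]
    · rw [h1, Category.assoc, ← pullback.condition, reassoc_of% hs1]

end Groth.Agent.H5.Depth2Hom
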